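import Groth.Agent.S0596
import Groth.Agent.PSLib.Basic
import Groth.Agent.Adic7.Lift
import Groth.Agent.NodeLib.Completion
import Groth.Prelude.Def_EGA4b
import Mathlib

/-! Retractions realizing a factorization of the node parameter, by Artin approximation. -/

set_option autoImplicit false
universe u

namespace Groth.Agent.NodeRetract7

open IsLocalRing

/-- Close to `t` and dividing `Δ` forces the same ideal as `t`. -/
theorem exists_bound {S : Type u} [CommRing S] [IsDomain S] [IsLocalRing S] [IsNoetherianRing S]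
    [UniqueFactorizationMonoid S] (Δ t : S) (hΔ : Δ ≠ 0) :
    ∃ N : ℕ, ∀ d : S, d ∣ Δ → t - d ∈ maximalIdeal S ^ N → Ideal.span {d} = Ideal.span {t} := by
  classical
  letI : NormalizationMonoid S := Classical.arbitrary _
  have krull : ∀ D x : S, (∀ N : ℕ, x ∈ Ideal.span {D} ⊔ maximalIdeal S ^ N) → x ∈ Ideal.span {D} := by
    intro D x hx
    by_cases hD : IsUnit D
    · rw [Ideal.span_singleton_eq_top.2 hD]; trivial
    haveI : Nontrivial (S ⧸ Ideal.span {D}) :=
      Ideal.Quotient.nontrivial_iff.2 (fun h => hD (Ideal.span_singleton_eq_top.1 h))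
    haveI : IsLocalRing (S ⧸ Ideal.span {D}) :=
      IsLocalRing.of_surjective' (Ideal.Quotient.mk _) Ideal.Quotient.mk_surjective
    rw [← Ideal.Quotient.eq_zero_iff_mem, ← Ideal.mem_bot,
      ← Ideal.iInf_pow_eq_bot_of_isLocalRing (maximalIdeal (S ⧸ Ideal.span {D})) (maximalIdeal.isMaximal _).ne_top,
      Ideal.mem_iInf]
    intro N
    have h1 := Ideal.mem_map_of_mem (Ideal.Quotient.mk (Ideal.span {D})) (hx N)
    rw [Ideal.map_sup, Ideal.map_quotient_self, bot_sup_eq, Ideal.map_pow] at h1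
    refine Ideal.pow_right_mono ?_ N h1
    haveI := Ideal.Quotient.mk_surjective.isLocalHom (f := Ideal.Quotient.mk (Ideal.span {D}))
    exact map_maximalIdeal_le _
  let T : Finset S := ((UniqueFactorizationMonoid.normalizedFactors Δ).powerset.map Multiset.prod).toFinset
  have hsep : ∀ D : S, ∃ N : ℕ, (t ∈ Ideal.span {D} ⊔ maximalIdeal S ^ N → t ∈ Ideal.span {D}) ∧
      (D ∈ Ideal.span {t} ⊔ maximalIdeal S ^ N → D ∈ Ideal.span {t}) := fun D => by
    obtain ⟨N₁, h₁⟩ : ∃ N, t ∈ Ideal.span {D} ⊔ maximalIdeal S ^ N → t ∈ Ideal.span {D} := by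
      by_contra! h
      exact (h 0).2 (krull D t fun N => (h N).1)
    obtain ⟨N₂, h₂⟩ : ∃ N, D ∈ Ideal.span {t} ⊔ maximalIdeal S ^ N → D ∈ Ideal.span {t} := by
      by_contra! h
      exact (h 0).2 (krull t D fun N => (h N).1)
    have e : ∀ (a b : ℕ) (I : Ideal S), a ≤ b → I ⊔ maximalIdeal S ^ b ≤ I ⊔ maximalIdeal S ^ a :=
      fun a b I hab => sup_le_sup le_rfl (Ideal.pow_le_pow_right hab)
    exact ⟨max N₁ N₂, fun h => h₁ (e _ _ _ (le_max_left _ _) h),
      fun h => h₂ (e _ _ _ (le_max_right _ _) h)⟩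
  choose N hN₁ hN₂ using hsep
  refine ⟨T.sup N, fun d hd hclose => ?_⟩
  have hd0 : d ≠ 0 := fun h => hΔ (by simpa [h] using hd)
  let D := (UniqueFactorizationMonoid.normalizedFactors d).prod
  have hass : Associated D d := UniqueFactorizationMonoid.prod_normalizedFactors hd0
  have hDd : Ideal.span ({D} : Set S) = Ideal.span {d} := Ideal.span_singleton_eq_span_singleton.2 hass
  have hDT : D ∈ T := Multiset.mem_toFinset.2 (Multiset.mem_map.2 ⟨_,
    Multiset.mem_powerset.2 ((UniqueFactorizationMonoid.dvd_iff_normalizedFactors_le_normalizedFactors hd0 hΔ).1 hd), rfl⟩)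
  have hle : maximalIdeal S ^ (T.sup N) ≤ maximalIdeal S ^ N D := Ideal.pow_le_pow_right (Finset.le_sup hDT)
  have h1 : t ∈ Ideal.span {D} := hN₁ D (by
    have := add_mem (Ideal.mem_sup_left (hDd ▸ Ideal.mem_span_singleton_self d : d ∈ Ideal.span {D}))
      (Ideal.mem_sup_right (hle hclose))
    simpa using this)
  have h2 : d ∈ Ideal.span {t} ⊔ maximalIdeal S ^ N D := by
    have := sub_mem (Ideal.mem_sup_left (Ideal.mem_span_singleton_self t)) (Ideal.mem_sup_right (hle hclose) :
      t - d ∈ Ideal.span {t} ⊔ maximalIdeal S ^ N D)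
    simpa using this
  have h3 : D ∈ Ideal.span {t} := hN₂ D (by
    obtain ⟨v, hv⟩ := hass.symm.dvd
    have h4 := Ideal.mul_mem_right v _ h2
    rwa [← hv] at h4)
  rw [← hDd]
  exact le_antisymm ((Ideal.span_singleton_le_iff_mem _).2 h3) ((Ideal.span_singleton_le_iff_mem _).2 h1)

/-- Evaluation at elements of the maximal ideal is local. -/
theorem ev_mem {T : Type u} [CommRing T] [IsLocalRing T] (ev : MvPowerSeries (Fin 2) T →ₐ[T] T)
    (hev : ∀ i, ev (MvPowerSeries.X i) ∈ maximalIdeal T) (p : MvPowerSeries (Fin 2) T)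
    (hp : ¬ IsUnit p) : ev p ∈ maximalIdeal T := by
  have hc : MvPowerSeries.constantCoeff p ∈ maximalIdeal T :=
    fun h => hp (MvPowerSeries.isUnit_iff_constantCoeff.2 h)
  have h0 : p - MvPowerSeries.C (MvPowerSeries.constantCoeff p) ∈
      Ideal.span (Set.range (MvPowerSeries.X : Fin 2 → MvPowerSeries (Fin 2) T)) := by
    refine PSLib.mem_vars_iff.2 ?_
    simp
  have h1 := Ideal.mem_map_of_mem ev.toRingHom h0
  rw [Ideal.map_span, ← Set.range_comp] at h1
  have h2 : ev (p - MvPowerSeries.C (MvPowerSeries.constantCoeff p)) ∈ maximalIdeal T := by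
    refine (Ideal.span_le.2 ?_) h1
    rintro _ ⟨i, rfl⟩
    exact hev i
  rw [map_sub, show (MvPowerSeries.C (MvPowerSeries.constantCoeff p) : MvPowerSeries (Fin 2) T) =
    algebraMap T _ (MvPowerSeries.constantCoeff p) from rfl, ev.commutes] at h2
  simpa using add_mem h2 hc

open MvPowerSeries in
/-- Retractions realizing a factorization. -/
theorem exists_retraction
    (R : Type u) [CommRing R] [IsNoetherianRing R] [HenselianLocalRing R] (hR : CAlg.IsGRing R)
    [IsDomain (AdicCompletion (maximalIdeal R) R)] [UniqueFactorizationMonoid (AdicCompletion (maximalIdeal R) R)]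
    (Δ t₁ t₂ : R) (hΔ : Δ ≠ 0) (ht₁ : t₁ ∈ maximalIdeal R) (ht₂ : t₂ ∈ maximalIdeal R) (ht : t₁ * t₂ = Δ)
    (C : Type u) [CommRing C] [IsLocalRing C] [Algebra R C] [IsLocalHom (algebraMap R C)]
    [Algebra.EssFiniteType R C]
    (ψ : AdicCompletion (maximalIdeal C) C ≃+*
      (MvPowerSeries (Fin 2) (AdicCompletion (maximalIdeal R) R) ⧸
        Ideal.span {(X 0 * X 1 - MvPowerSeries.C (algebraMap R (AdicCompletion (maximalIdeal R) R) Δ) :
          MvPowerSeries (Fin 2) (AdicCompletion (maximalIdeal R) R))}))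
    (hψ : ψ.toRingHom.comp ((algebraMap C (AdicCompletion (maximalIdeal C) C)).comp (algebraMap R C)) =
      (Ideal.Quotient.mk _).comp ((MvPowerSeries.C : AdicCompletion (maximalIdeal R) R →+*
        MvPowerSeries (Fin 2) (AdicCompletion (maximalIdeal R) R)).comp
          (algebraMap R (AdicCompletion (maximalIdeal R) R)))) :
    ∃ (g : C →ₐ[R] R) (ĝ : AdicCompletion (maximalIdeal C) C →+* AdicCompletion (maximalIdeal R) R),
      ĝ.comp (algebraMap C (AdicCompletion (maximalIdeal C) C)) =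
        (algebraMap R (AdicCompletion (maximalIdeal R) R)).comp g.toRingHom ∧
      Ideal.span {ĝ (ψ.symm (Ideal.Quotient.mk _ (X 0)))} =
        Ideal.span {algebraMap R (AdicCompletion (maximalIdeal R) R) t₁} ∧
      Ideal.span {ĝ (ψ.symm (Ideal.Quotient.mk _ (X 1)))} =
        Ideal.span {algebraMap R (AdicCompletion (maximalIdeal R) R) t₂} := by
  classical
  set Rh := AdicCompletion (maximalIdeal R) R with hRh
  let ιR : R →+* Rh := algebraMap R Rh
  haveI : IsNoetherianRing C := Algebra.EssFiniteType.isNoetherianRing R C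
  haveI : IsNoetherianRing Rh := LC.Canon.isNoetherianRing_completion (R := R)
  haveI : IsAdicComplete (maximalIdeal Rh) Rh := NodeLib.isAdicComplete_maximalIdeal R
  have hm : maximalIdeal Rh = (maximalIdeal R).map ιR := AdicCompletion.maximalIdeal_eq_map
  have hιinj : Function.Injective ιR := by
    haveI : IsHausdorff (maximalIdeal R) R := IsHausdorff.of_isLocalRing (maximalIdeal R) R (maximalIdeal.isMaximal R).ne_top
    exact fun x y h => AdicCompletion.of_injective (maximalIdeal R) R h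
  haveI hloc : IsLocalHom ιR := ⟨fun x hx => by
    by_contra h
    exact (show ιR x ∈ maximalIdeal Rh from hm ▸ Ideal.mem_map_of_mem _ ((mem_maximalIdeal _).mpr h)) hx⟩
  -- evaluation at the factorization
  obtain ⟨ev, hev⟩ := PSLib.exists_algHom (R := Rh) (A := Rh) (maximalIdeal Rh) ![ιR t₁, ιR t₂] (fun i => by
    fin_cases i
    · exact hm ▸ Ideal.mem_map_of_mem _ ht₁
    · exact hm ▸ Ideal.mem_map_of_mem _ ht₂)
  let ε : (MvPowerSeries (Fin 2) Rh ⧸ Ideal.span {(X 0 * X 1 - MvPowerSeries.C (ιR Δ) : MvPowerSeries (Fin 2) Rh)}) →+* Rh :=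
    Ideal.Quotient.lift _ ev.toRingHom (fun x hx => by
      obtain ⟨y, rfl⟩ := Ideal.mem_span_singleton.1 hx
      show ev _ = 0
      rw [map_mul, map_sub, map_mul, hev, hev, show (MvPowerSeries.C (ιR Δ) : MvPowerSeries (Fin 2) Rh) =
        algebraMap Rh _ (ιR Δ) from rfl, ev.commutes]
      simp [← map_mul, ht])
  let g₀ : AdicCompletion (maximalIdeal C) C →+* Rh := ε.comp ψ.toRingHom
  have hf : ∀ r : R, g₀ (algebraMap C _ (algebraMap R C r)) = ιR r := fun r => by
    refine (congrArg ε (DFunLike.congr_fun hψ r)).trans ?_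
    show ev (algebraMap Rh _ (ιR r)) = ιR r
    rw [ev.commutes]; rfl
  let f : C →ₐ[R] Rh := { g₀.comp (algebraMap C _) with commutes' := hf }
  -- a presentation
  let S := Algebra.EssFiniteType.subalgebra R C
  obtain ⟨n, φ, hφ⟩ := Algebra.FiniteType.iff_quotient_mvPolynomial''.1 (inferInstance : Algebra.FiniteType R S)
  obtain ⟨m, F, hF⟩ := Submodule.fg_iff_exists_fin_generating_family.1 (IsNoetherian.noetherian (RingHom.ker φ))
  let fS : S →ₐ[R] Rh := f.comp (IsScalarTower.toAlgHom R S C)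
  let a : Fin n → Rh := fun i => fS (φ (MvPolynomial.X i))
  have ha : ∀ p, MvPolynomial.aeval a p = fS (φ p) := fun p =>
    congr($(MvPolynomial.algHom_ext (f := MvPolynomial.aeval a) (g := fS.comp φ) fun i => by simp [a]) p)
  obtain ⟨N₀, hN₀⟩ := exists_bound (ιR Δ) (ιR t₁) (fun h => hΔ (hιinj (h.trans (map_zero _).symm)))
  let N := N₀ + 1
  obtain ⟨b, hb0, hbN⟩ := S0596.result R hR n m F a (fun j => by
    rw [MvPolynomial.eval_map, ← MvPolynomial.aeval_def, ha,
      show φ (F j) = 0 from RingHom.mem_ker.1 (hF ▸ Submodule.subset_span ⟨j, rfl⟩), map_zero]) N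
  have hker : ∀ p, φ p = 0 → MvPolynomial.aeval b p = 0 := fun p hp => by
    have hp' : p ∈ Submodule.span (MvPolynomial (Fin n) R) (Set.range F) := hF.symm ▸ RingHom.mem_ker.2 hp
    clear hp
    induction hp' using Submodule.span_induction with
    | mem q hq => obtain ⟨j, rfl⟩ := hq; simpa [MvPolynomial.aeval_eq_bind₁, MvPolynomial.coe_aeval_eq_eval] using hb0 j
    | zero => exact map_zero _
    | add q q' _ _ hq hq' => rw [map_add, hq, hq', add_zero]
    | smul c q _ hq => rw [smul_eq_mul, map_mul, hq, mul_zero]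
  let gS : S →ₐ[R] R :=
    { RingHom.liftOfSurjective φ.toRingHom hφ ⟨(MvPolynomial.aeval b).toRingHom, fun p hp => hker p hp⟩ with
      commutes' := fun r => by
        show RingHom.liftOfSurjective φ.toRingHom hφ _ (algebraMap R S r) = _
        rw [← φ.commutes r]
        exact (RingHom.liftOfRightInverse_comp_apply _ _ _ _ _).trans (AlgHom.commutes _ r) }
  have hgS : ∀ p, gS (φ p) = MvPolynomial.aeval b p := fun p => RingHom.liftOfRightInverse_comp_apply _ _ _ _ p
  let K : Ideal Rh := maximalIdeal Rh ^ N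
  have hK : ∀ s : S, fS s - ιR (gS s) ∈ K := fun s => by
    obtain ⟨p, rfl⟩ := hφ s
    rw [hgS, ← ha, ← Ideal.Quotient.eq]
    refine congr($(MvPolynomial.algHom_ext (f := (Ideal.Quotient.mkₐ R K).comp (MvPolynomial.aeval a))
      (g := ((Ideal.Quotient.mkₐ R K).comp (Algebra.ofId R Rh)).comp (MvPolynomial.aeval b)) fun i => by
        simp only [AlgHom.comp_apply, MvPolynomial.aeval_X]
        refine Ideal.Quotient.eq.2 ?_
        show a i - ιR (b i) ∈ K
        simp only [K]
        rw [hm, ← Ideal.map_pow]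
        exact hbN i) p)
  have hKm : K ≤ maximalIdeal Rh := Ideal.pow_le_self (Nat.succ_ne_zero N₀)
  have hu : ∀ s : Algebra.EssFiniteType.submonoid R C, IsUnit (gS s) := fun s => by
    have h1 : IsUnit (fS (s : S)) := (IsLocalization.map_units C s).map f
    refine hloc.map_nonunit _ ?_
    by_contra h
    have := add_mem ((mem_maximalIdeal _).mpr h) (hKm (hK (s : S)))
    rw [add_sub_cancel] at this
    exact (mem_maximalIdeal _).1 this h1
  let g : C →ₐ[R] R := IsLocalization.liftAlgHom (M := Algebra.EssFiniteType.submonoid R C) (f := gS) hu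
  have hgC : ∀ c : C, f c - ιR (g c) ∈ K := fun c => by
    obtain ⟨s, w, rfl⟩ := IsLocalization.exists_mk'_eq (Algebra.EssFiniteType.submonoid R C) c
    set z := IsLocalization.mk' C s w
    have hz : z * algebraMap S C w = algebraMap S C s := IsLocalization.mk'_spec C s w
    have hz2 : g z * gS w = gS s := by
      have := congrArg g hz
      rwa [map_mul, show g (algebraMap S C w) = gS w from IsLocalization.lift_eq _ _,
        show g (algebraMap S C s) = gS s from IsLocalization.lift_eq _ _] at this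
    have hz1 : f z * fS w = fS s := by
      have := congrArg f hz
      rwa [map_mul] at this
    have e : (f z - ιR (g z)) * ιR (gS w) = (fS s - ιR (gS s)) - f z * (fS w - ιR (gS w)) := by
      rw [← hz1, ← hz2, map_mul]; ring
    refine (Ideal.mul_unit_mem_iff_mem _ ((hu w).map ιR)).1 ?_
    rw [e]
    exact sub_mem (hK _) (K.mul_mem_left _ (hK _))
  have hgm : ∀ x ∈ maximalIdeal C, g x ∈ maximalIdeal R := fun x hx => by
    have h0 : f x ∈ maximalIdeal Rh := by
      have h1 : algebraMap C (AdicCompletion (maximalIdeal C) C) x ∈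
          maximalIdeal (AdicCompletion (maximalIdeal C) C) :=
        AdicCompletion.maximalIdeal_eq_map (R := C) ▸ Ideal.mem_map_of_mem _ hx
      intro hu'
      obtain ⟨p, hp⟩ := Ideal.Quotient.mk_surjective (ψ (algebraMap C _ x))
      have hp1 : ev p = f x := congrArg ε hp
      by_cases hpu : IsUnit p
      · have h2 : IsUnit (ψ (algebraMap C _ x)) := hp ▸ hpu.map (Ideal.Quotient.mk _)
        have h3 := h2.map ψ.symm
        rw [RingEquiv.symm_apply_apply] at h3
        exact h1 h3
      · exact ev_mem ev (fun i => by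
          rw [hev]
          fin_cases i
          · exact hm ▸ Ideal.mem_map_of_mem _ ht₁
          · exact hm ▸ Ideal.mem_map_of_mem _ ht₂) p hpu (hp1.symm ▸ hu')
    intro hu'
    have h2 := sub_mem h0 (hKm (hgC x))
    rw [sub_sub_cancel] at h2
    exact h2 (hu'.map ιR)
  obtain ⟨G, hG⟩ := Adic7.exists_lift_completion (R := R) (maximalIdeal C) (maximalIdeal Rh)
    ((Algebra.ofId R Rh).comp g) (Ideal.map_le_iff_le_comap.2 fun x hx =>
      hm ▸ Ideal.mem_map_of_mem ιR (hgm x hx))
  refine ⟨g, G.toRingHom, RingHom.ext fun c => hG c, ?_⟩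
  have hclose : ∀ z, g₀ z - G z ∈ K := fun z => by
    obtain ⟨c, hc⟩ := Adic7.exists_sub_algebraMap_mem (maximalIdeal C) (IsNoetherian.noetherian _) z N
    have hmap : ∀ h : AdicCompletion (maximalIdeal C) C →+* Rh,
        (∀ x ∈ maximalIdeal C, h (algebraMap C _ x) ∈ maximalIdeal Rh) → h (z - algebraMap C _ c) ∈ K := fun h hh => by
      refine (show _ ≤ K.comap h from ?_) hc
      rw [← Ideal.map_le_iff_le_comap, Ideal.map_pow, Ideal.map_map]
      exact Ideal.pow_right_mono (Ideal.map_le_iff_le_comap.2 hh) N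
    have e1 := hmap g₀ (fun x hx => by
      have h2 := add_mem (hm.ge (Ideal.mem_map_of_mem ιR (hgm x hx))) (hKm (hgC x))
      rwa [add_sub_cancel] at h2)
    have e2 := hmap G.toRingHom (fun x hx => by
      show G (algebraMap C _ x) ∈ _
      rw [hG]; exact hm ▸ Ideal.mem_map_of_mem ιR (hgm x hx))
    have e3 : g₀ (algebraMap C _ c) - G (algebraMap C _ c) ∈ K := by rw [hG]; exact hgC c
    have := add_mem (sub_mem e1 e2) e3
    convert this using 1
    show _ = g₀ (z - _) - G (z - _) + _
    rw [map_sub, map_sub]; ring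
  set q := Ideal.Quotient.mk (Ideal.span {(X 0 * X 1 - MvPowerSeries.C (ιR Δ) : MvPowerSeries (Fin 2) Rh)}) with hq
  let x := G (ψ.symm (q (X 0)))
  let y := G (ψ.symm (q (X 1)))
  have hxy : x * y = ιR Δ := by
    have e1 : q (X 0) * q (X 1) = q (MvPowerSeries.C (ιR Δ)) := by
      rw [← map_mul, hq, Ideal.Quotient.eq]; exact Ideal.subset_span rfl
    have e2 : ψ.symm (q (MvPowerSeries.C (ιR Δ))) = algebraMap C _ (algebraMap R C Δ) :=
      ψ.symm_apply_eq.2 (DFunLike.congr_fun hψ Δ).symm
    show G _ * G _ = _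
    rw [← map_mul, ← map_mul, e1, e2, hG, AlgHom.commutes]
  have hx : Ideal.span {x} = Ideal.span {ιR t₁} := hN₀ x ⟨y, hxy.symm⟩ (by
    have h1 := hclose (ψ.symm (q (X 0)))
    have h2 : g₀ (ψ.symm (q (X 0))) = ιR t₁ := by
      show ε (ψ (ψ.symm _)) = _
      rw [RingEquiv.apply_symm_apply]
      exact hev 0
    rw [h2] at h1
    exact Ideal.pow_le_pow_right (Nat.le_succ N₀) h1)
  refine ⟨hx, ?_⟩
  obtain ⟨w, hw⟩ := Ideal.span_singleton_eq_span_singleton.1 hx.symm
  have ht0 : ιR t₁ ≠ 0 := fun h => hΔ (by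
    rw [← ht]; refine hιinj ?_; rw [map_mul, map_zero]; simp [h])
  refine Ideal.span_singleton_eq_span_singleton.2 ⟨w, mul_left_cancel₀ ht0 ?_⟩
  show ιR t₁ * (y * ↑w) = ιR t₁ * ιR t₂
  calc ιR t₁ * (y * ↑w) = ιR t₁ * ↑w * y := by ring
    _ = x * y := by rw [hw]
    _ = ιR Δ := hxy
    _ = ιR t₁ * ιR t₂ := by rw [← ht, map_mul]

end Groth.Agent.NodeRetract7
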